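import Cfsg.Agent.H267.Sp.SpecAlt_m3
import Cfsg.Agent.H102.E7V.Pos_m3
import Cfsg.Agent.CharDeep.LinearChar
import Cfsg.Agent.H943.E7V.Iface
import Cfsg.Agent.H190.Exc.Main_m3
import Cfsg.Agent.S0157
import Cfsg.Agent.H355.SzOdd
import Cfsg.Agent.H326.Four.RowHe
import Cfsg.Agent.S0165
import Cfsg.Agent.FastGrp
import Cfsg.Agent.Prune
set_option linter.all false
prune_inst 0x7f00000000000000000000000000000000000000000000000000000000000000000000000000000000000000000000000000000000000000000000000000000000000000000000000000000000000000003fffffffffffffffffffffffffffbeffbdfbfeffff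
open scoped Cfsg.Agent.FastGrp

-- part: H102/E7V/Count
section
/-!
# Sums of class functions over the elements of prime order `r`, `r ^ 2 ∤ |G|`
-/

set_option autoImplicit false

namespace Cfsg.Agent.H102.E7V

open Subgroup

/-- the sum of a class function over the elements of order `r` -/
theorem sum_order {G : Type*} [Group G] [Fintype G] [DecidableEq G] {r : ℕ} (hr : r.Prime)
    (hsq : ¬ r ^ 2 ∣ Nat.card G) {x : G} (hx : orderOf x = r) (f : G → ℂ) (hf : ∀ c g, f (c * g * c⁻¹) = f g)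
    [Fintype (zpowers x)] :
    ∑ g ∈ Finset.univ.filter (fun g : G => orderOf g = r), f g =
      Nat.card (Sylow r G) * (∑ y : zpowers x, f y - f 1) := by
  classical
  have : Fact r.Prime := ⟨hr⟩
  have := Fintype.ofFinite (Sylow r G)
  have hdvd : r ∣ Nat.card G := hx ▸ _root_.orderOf_dvd_natCard x
  have hfac : (Nat.card G).factorization r = 1 := by
    have h1 : 0 < (Nat.card G).factorization r := hr.factorization_pos_of_dvd Nat.card_pos.ne' hdvd
    have h2 : ¬ 2 ≤ (Nat.card G).factorization r := by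
      intro h
      exact hsq ((hr.pow_dvd_iff_le_factorization Nat.card_pos.ne').2 h)
    omega
  have hcard : ∀ P : Sylow r G, Nat.card (P : Subgroup G) = r := by
    intro P
    rw [P.card_eq_multiplicity, hfac, pow_one]
  have hord : ∀ (P : Sylow r G) (g : G), g ∈ (P : Subgroup G) → g ≠ 1 → orderOf g = r := by
    intro P g hg h1
    have h2 : orderOf g ∣ r := by
      rw [← hcard P]
      exact Subgroup.orderOf_dvd_natCard _ hg
    exact ((Nat.dvd_prime hr).1 h2).resolve_left (fun h => h1 (orderOf_eq_one_iff.1 h))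
  let P : Sylow r G := Sylow.ofCard (Subgroup.zpowers x) (by rw [Nat.card_zpowers, hx, hfac, pow_one])
  have hP : (P : Subgroup G) = zpowers x := rfl
  -- the sum over a Sylow subgroup
  have hsum : ∀ Q : Sylow r G, ∑ g ∈ Finset.univ.filter (fun g : G => g ∈ (Q : Subgroup G) ∧ g ≠ 1), f g =
      ∑ y : zpowers x, f y - f 1 := by
    intro Q
    obtain ⟨c, hc⟩ := MulAction.exists_smul_eq G P Q
    have h1 : ∑ g ∈ Finset.univ.filter (fun g : G => g ∈ (Q : Subgroup G) ∧ g ≠ 1), f g =
        ∑ g ∈ Finset.univ.filter (fun g : G => g ∈ (P : Subgroup G) ∧ g ≠ 1), f g := by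
      symm
      refine Finset.sum_bij (fun g _ => c * g * c⁻¹) ?_ ?_ ?_ ?_
      · intro g hg
        rw [Finset.mem_filter] at hg ⊢
        refine ⟨Finset.mem_univ _, ?_, ?_⟩
        · rw [← hc, Sylow.coe_subgroup_smul]
          exact Subgroup.smul_mem_pointwise_smul g (MulAut.conj c) (P : Subgroup G) hg.2.1
        · intro h
          apply hg.2.2
          have : g = c⁻¹ * (c * g * c⁻¹) * c := by group
          rw [this, h]
          group
      · intro a _ b _ h
        simpa only [_root_.mul_left_inj, _root_.mul_right_inj] using h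
      · intro g hg
        rw [Finset.mem_filter] at hg
        have h2 : g ∈ (Q : Subgroup G) := hg.2.1
        rw [← hc, Sylow.coe_subgroup_smul] at h2
        obtain ⟨z, hz, hz'⟩ := Subgroup.mem_smul_pointwise_iff_exists _ _ _ |>.1 h2
        have hz2 : c * z * c⁻¹ = g := by
          rw [← hz']
          simp [MulAut.smul_def, MulAut.conj_apply]
        refine ⟨z, ?_, hz2⟩
        rw [Finset.mem_filter]
        refine ⟨Finset.mem_univ _, hz, ?_⟩
        rintro rfl
        apply hg.2.2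
        rw [← hz2]
        group
      · intro g _
        exact (hf c g).symm
    rw [h1]
    have h2 : ∑ g ∈ Finset.univ.filter (fun g : G => g ∈ (P : Subgroup G)), f g = ∑ y : zpowers x, f y := by
      rw [Finset.sum_filter, ← Finset.sum_filter]
      refine (Finset.sum_subtype _ (p := fun g => g ∈ zpowers x) ?_ f)
      intro g
      rw [Finset.mem_filter]
      exact ⟨fun h => h.2, fun h => ⟨Finset.mem_univ _, h⟩⟩
    rw [← h2]
    have h3 : (Finset.univ.filter (fun g : G => g ∈ (P : Subgroup G) ∧ g ≠ 1)) =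
        (Finset.univ.filter (fun g : G => g ∈ (P : Subgroup G))).erase 1 := by
      ext g
      rw [Finset.mem_erase, Finset.mem_filter, Finset.mem_filter]
      (clear * -; itauto)
    rw [h3, ← Finset.add_sum_erase (Finset.univ.filter (fun g : G => g ∈ (P : Subgroup G))) f
      (Finset.mem_filter.2 ⟨Finset.mem_univ _, one_mem _⟩)]
    ring
  have h1 : ∑ Q : Sylow r G, ∑ g ∈ Finset.univ.filter (fun g : G => g ∈ (Q : Subgroup G) ∧ g ≠ 1), f g =
      Nat.card (Sylow r G) * (∑ y : zpowers x, f y - f 1) := by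
    rw [Finset.sum_congr rfl fun Q _ => hsum Q, Finset.sum_const, Finset.card_univ, nsmul_eq_mul,
      Nat.card_eq_fintype_card]
  rw [← h1, Finset.sum_comm' (s' := fun g => Finset.univ.filter (fun Q : Sylow r G => g ∈ (Q : Subgroup G)))
    (t' := Finset.univ.filter (fun g : G => orderOf g = r))]
  · refine Finset.sum_congr rfl fun g hg => ?_
    rw [Finset.sum_const]
    have hg' : orderOf g = r := (Finset.mem_filter.1 hg).2
    have h2 : (Finset.univ.filter (fun Q : Sylow r G => g ∈ (Q : Subgroup G))).card = 1 := by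
      rw [Finset.card_eq_one]
      let Q : Sylow r G := Sylow.ofCard (Subgroup.zpowers g) (by rw [Nat.card_zpowers, hg', hfac, pow_one])
      refine ⟨Q, ?_⟩
      ext R
      rw [Finset.mem_filter, Finset.mem_singleton]
      constructor
      · rintro ⟨-, h⟩
        symm
        apply Sylow.ext
        apply Subgroup.eq_of_le_of_card_ge
        · show zpowers g ≤ _
          rw [zpowers_le]
          exact h
        · rw [hcard R, hcard Q]
      · rintro rfl
        exact ⟨Finset.mem_univ _, mem_zpowers g⟩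
    rw [h2, one_smul]
  · intro Q g
    rw [Finset.mem_filter, Finset.mem_filter, Finset.mem_filter]
    constructor
    · rintro ⟨-, -, h, h'⟩
      exact ⟨⟨Finset.mem_univ _, h⟩, Finset.mem_univ _, hord Q g h h'⟩
    · rintro ⟨⟨-, h⟩, -, h'⟩
      refine ⟨Finset.mem_univ _, Finset.mem_univ _, h, ?_⟩
      rintro rfl
      rw [orderOf_one] at h'
      exact hr.one_lt.ne h'

/-- the Sylow count -/
theorem count {G : Type*} [Group G] [Finite G] {r : ℕ} (hr : r.Prime) (hsq : ¬ r ^ 2 ∣ Nat.card G) {x : G}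
    (hx : orderOf x = r) : ∃ e, e ∣ r - 1 ∧ Nat.card (Sylow r G) % r = 1 % r ∧
      Nat.card (normalizer (zpowers x : Set G)) = Nat.card (centralizer ({x} : Set G)) * e ∧
      Nat.card G = Nat.card (Sylow r G) * (Nat.card (centralizer ({x} : Set G)) * e) := by
  have : Fact r.Prime := ⟨hr⟩
  have hdvd : r ∣ Nat.card G := hx ▸ _root_.orderOf_dvd_natCard _
  have hfac : (Nat.card G).factorization r = 1 := by
    have h1 : 0 < (Nat.card G).factorization r := hr.factorization_pos_of_dvd Nat.card_pos.ne' hdvd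
    have h2 : ¬ 2 ≤ (Nat.card G).factorization r := by
      intro h
      exact hsq ((hr.pow_dvd_iff_le_factorization Nat.card_pos.ne').2 h)
    omega
  let P : Sylow r G := Sylow.ofCard (Subgroup.zpowers x) (by rw [Nat.card_zpowers, hx, hfac, pow_one])
  have hmod := card_sylow_modEq_one r G
  set Z := Subgroup.zpowers x with hZ
  have hcardP : Nat.card (Sylow r G) = Nat.card (G ⧸ Subgroup.normalizer (Z : Set G)) :=
    P.card_eq_card_quotient_normalizer
  have hker := Subgroup.normalizerMonoidHom_ker Z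
  have hcardker : Nat.card Z.normalizerMonoidHom.ker = Nat.card (Subgroup.centralizer ({x} : Set G)) := by
    have hcz : Subgroup.centralizer (Z : Set G) = Subgroup.centralizer ({x} : Set G) := by
      rw [hZ, Subgroup.zpowers_eq_closure, Subgroup.centralizer_closure]
    rw [hker, hcz]
    have hle : Subgroup.centralizer ({x} : Set G) ≤ Subgroup.normalizer (Z : Set G) := by
      rw [← hcz]
      exact Subgroup.centralizer_le_normalizer _
    exact Nat.card_congr (Subgroup.subgroupOfEquivOfLe hle).toEquiv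
  have hmul := Z.normalizerMonoidHom.ker.card_mul_index
  rw [hcardker, Subgroup.index_ker] at hmul
  have hdvde : Nat.card Z.normalizerMonoidHom.range ∣ r - 1 := by
    have h1 := Subgroup.card_subgroup_dvd_card Z.normalizerMonoidHom.range
    rw [IsCyclic.card_mulAut, hZ, Nat.card_zpowers, hx, Nat.totient_prime hr] at h1
    exact h1
  refine ⟨_, hdvde, hmod, hmul.symm, ?_⟩
  rw [hmul, hcardP]
  exact Subgroup.card_eq_card_quotient_mul_card_subgroup (Subgroup.normalizer (Z : Set G))

end Cfsg.Agent.H102.E7V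
end

-- part: H102/E7V/Frob
section
set_option autoImplicit false

namespace Cfsg.Agent.H102.E7V

open Cfsg IsLocalRing Module Cfsg.Agent.H657 Cfsg.Agent.H943.E7V Subgroup

universe u

/-- the Frobenius group of order 21 with the values 20 and 0 -/
theorem not_frob (hpos : Pos.{u}) {M : Ideal AlgInt} {V : ValuationSubring ℂ} (hM : IsPModular 2 M) (hV : Above M V)
    {K : Type u} [Group K] [Finite K] {P : Subgroup K} [P.Normal] (hP : Nat.card P = 7) (hPi : P.index = 3)
    (h21 : ∀ g : K, orderOf g ≠ 21)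
    (σ : Representation (ResidueField V) K (Fin 56 → ResidueField V)) (h1 : bc 2 σ 1 = 56)
    (h3 : ∀ g, orderOf g = 3 → bc 2 σ g = 20) (h7 : ∀ g, orderOf g = 7 → bc 2 σ g = 0) : False := by
  classical
  have := Fintype.ofFinite K
  have hK : Nat.card K = 21 := by
    rw [← P.card_mul_index, hP, hPi]
  have hq : Nat.card (K ⧸ P) = 3 := by rw [← hPi]; rfl
  have h3p : Fact (Nat.Prime 3) := ⟨Nat.prime_three⟩
  have hcyc : IsCyclic (K ⧸ P) := isCyclic_of_prime_card hq
  let _ : CommGroup (K ⧸ P) := hcyc.commGroup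
  obtain ⟨a, ha⟩ : ∃ a : K ⧸ P, a ≠ 1 := by
    have : Nontrivial (K ⧸ P) := Finite.one_lt_card_iff_nontrivial.1 (by rw [hq]; norm_num)
    exact exists_ne 1
  obtain ⟨φ, hφ⟩ := CommGroup.exists_apply_ne_one_of_hasEnoughRootsOfUnity (K ⧸ P) ℂ ha
  let l : K →* ℂˣ := φ.comp (QuotientGroup.mk' P)
  have hlP : ∀ k ∈ P, l k = 1 := by
    intro k hk
    show φ (QuotientGroup.mk' P k) = 1
    have h : QuotientGroup.mk' P k = 1 := (QuotientGroup.eq_one_iff k).2 hk
    rw [h, map_one]
  have hl1 : ((Units.coeHom ℂ).comp l) ≠ 1 := by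
    intro h
    obtain ⟨k, rfl⟩ := QuotientGroup.mk'_surjective P a
    apply hφ
    apply Units.ext
    exact DFunLike.congr_fun h k
  have hsum : ∑ k : K, ((l k⁻¹ : ℂˣ) : ℂ) = 0 := by
    rw [← sum_hom_units_eq_zero ((Units.coeHom ℂ).comp l) hl1]
    exact Fintype.sum_equiv (Equiv.inv K) _ _ fun k => rfl
  obtain ⟨d, -, he⟩ := hpos hM hV σ (CharDeep.LinearChar.isIrrCharacter_of_hom l) (by
    intro g hg
    exfalso
    apply hg
    intro h2
    have h4 := h2.trans (_root_.orderOf_dvd_natCard g)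
    rw [hK] at h4
    norm_num at h4)
  have hbc : ∀ k : K, bc 2 σ k * ((l k⁻¹ : ℂˣ) : ℂ) = 20 * ((l k⁻¹ : ℂˣ) : ℂ) +
      ((-20) * (if k ∈ P then (1 : ℂ) else 0) + 56 * (if k = 1 then (1 : ℂ) else 0)) := by
    intro k
    by_cases hk1 : k = 1
    · subst hk1
      rw [h1, if_pos (one_mem _), if_pos rfl, inv_one, map_one]
      norm_num
    rw [if_neg hk1]
    have hd : orderOf k ∣ 21 := hK ▸ _root_.orderOf_dvd_natCard k
    have hne : orderOf k ≠ 1 := fun h => hk1 (orderOf_eq_one_iff.1 h)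
    have hcases : orderOf k = 3 ∨ orderOf k = 7 := by
      have h5 : orderOf k ∈ Nat.divisors 21 := Nat.mem_divisors.2 ⟨hd, by norm_num⟩
      have h6 : Nat.divisors 21 = {1, 3, 7, 21} := by decide +kernel
      rw [h6] at h5
      simp only [Finset.mem_insert, Finset.mem_singleton] at h5
      have := h21 k
      (clear * - hne h5 this; itauto)
    by_cases hkP : k ∈ P
    · have h5 : orderOf k ∣ 7 := hP ▸ Subgroup.orderOf_dvd_natCard P hkP
      have h6 : orderOf k = 7 := by
        rcases hcases with h | h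
        · rw [h] at h5
          norm_num at h5
        · exact h
      rw [h7 k h6, if_pos hkP, hlP _ (inv_mem hkP)]
      norm_num
    · have h6 : orderOf k = 3 := by
        rcases hcases with h | h
        · exact h
        · exfalso
          apply hkP
          rw [← QuotientGroup.eq_one_iff, ← orderOf_eq_one_iff]
          have h8 : orderOf (k : K ⧸ P) ∣ 7 := h ▸ orderOf_map_dvd (QuotientGroup.mk' P) k
          have h9 : orderOf (k : K ⧸ P) ∣ 3 := hq ▸ _root_.orderOf_dvd_natCard _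
          exact Nat.dvd_one.1 ((Nat.dvd_gcd h8 h9).trans (by norm_num))
      rw [h3 k h6, if_neg hkP]
      norm_num
  rw [Finset.sum_congr rfl fun k _ => hbc k, Finset.sum_add_distrib, Finset.sum_add_distrib, ← Finset.mul_sum,
    ← Finset.mul_sum, ← Finset.mul_sum, hsum, Finset.sum_ite_eq' Finset.univ (1 : K), if_pos (Finset.mem_univ _),
    ← Finset.sum_filter, Finset.sum_const, nsmul_eq_mul, ← Nat.card_eq_fintype_card, hK] at he
  have h8 : (Finset.univ.filter (fun k : K => k ∈ P)).card = 7 := by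
    rw [← hP, Nat.card_eq_fintype_card]
    exact (Fintype.card_subtype _).symm
  rw [h8, map_one] at he
  norm_num at he
  have h9 : (d : ℝ) * 21 = -84 := by exact_mod_cast he
  have h10 : (0 : ℝ) ≤ d := Nat.cast_nonneg d
  linarith only [h9]

end Cfsg.Agent.H102.E7V
end

-- part: H102/E7V/Sz
section
set_option autoImplicit false

namespace Cfsg.Agent.H102.E7V

open Cfsg IsLocalRing Module Cfsg.Agent.H657 Cfsg.Agent.H943.E7V MulAction
open Cfsg.Agent.LieExceptional Cfsg.Agent.LieExceptional.SuzukiSylow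
open Cfsg.Agent.H98.SzBasic Cfsg.Agent.H98.SzPartition
open Cfsg.Agent.LieExceptional.SuzukiTori

universe u

variable {F : Type u} [Field F] [Fintype F]

/-- the number of fixed points on the ovoid -/
noncomputable def fx (g : Cfsg.Sz F 1) : ℕ := Nat.card (fixedBy (Cfsg.suzukiOvoid F 1) g)

theorem cF (hF : Fintype.card F = 8) : Fintype.card F = 2 ^ (2 * 1 + 1) := by rw [hF]; norm_num

theorem card_sz8 (hF : Fintype.card F = 8) : Nat.card (Cfsg.Sz F 1) = 29120 := by
  rw [S0324.result le_rfl (cF hF)]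
  norm_num

theorem fx_conj (g y : Cfsg.Sz F 1) : fx (y * g * y⁻¹) = fx g := by
  unfold fx
  refine Nat.card_congr
    { toFun := fun p => ⟨y⁻¹ • (p : Cfsg.suzukiOvoid F 1), ?_⟩
      invFun := fun p => ⟨y • (p : Cfsg.suzukiOvoid F 1), ?_⟩
      left_inv := fun p => Subtype.ext (smul_inv_smul _ _)
      right_inv := fun p => Subtype.ext (inv_smul_smul _ _) }
  · have h := p.2
    rw [mem_fixedBy] at h ⊢
    rw [mul_smul, mul_smul] at h
    rw [eq_inv_smul_iff, h]
  · have h := p.2
    rw [mem_fixedBy] at h ⊢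
    rw [mul_smul, mul_smul, inv_smul_smul, h]

/-- the elements of `Sz(8)` -/
theorem cases_sz8 (hF : Fintype.card F = 8) (g : Cfsg.Sz F 1) :
    g = 1 ∨ (fx g = 0 ∧ (orderOf g = 5 ∨ orderOf g = 13)) ∨ (fx g = 2 ∧ orderOf g = 7) ∨
      (fx g = 1 ∧ 2 ∣ orderOf g) := by
  classical
  have hF' := cF hF
  have HH := SuzukiHyp.hyp (F := F) (m := 1) le_rfl hF'
  have hfin := finite_ovoid F 1
  rcases eq_or_ne g 1 with h1 | h1
  · exact Or.inl h1
  right
  rcases trichotomy le_rfl hF' h1 with h | ⟨y, k, hk, h⟩ | ⟨y, a, b, hab, h⟩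
  · left
    refine ⟨h, ?_⟩
    have h2 := card_centralizer_free le_rfl hF' h
    have h3 : orderOf g ∣ Nat.card (Subgroup.centralizer ({g} : Set (Cfsg.Sz F 1))) :=
      Subgroup.orderOf_dvd_natCard _ (by rw [Subgroup.mem_centralizer_singleton_iff])
    have h4 : orderOf g ≠ 1 := fun h => h1 (orderOf_eq_one_iff.1 h)
    rcases h2 with h2 | h2
    · rw [h2] at h3
      right
      exact (((Nat.dvd_prime (by norm_num : Nat.Prime 13)).1 (by simpa using h3)).resolve_left h4)
    · rw [Set.mem_singleton_iff.1 h2] at h3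
      left
      exact (((Nat.dvd_prime (by norm_num : Nat.Prime 5)).1 (by simpa using h3)).resolve_left h4)
  · right; left
    have ho : orderOf g = orderOf (H98.SzBasic.h hF' k) := by
      rw [← h]
      exact (orderOf_injective (MulAut.conj y).toMonoidHom (MulAut.conj y).injective g).symm
    have ho7 : orderOf g = 7 := by
      have h2 : orderOf (H98.SzBasic.h hF' k) ∣ 7 := by
        have h3 : orderOf (hHom (m := 1) hF' k) ∣ orderOf k := orderOf_map_dvd _ _
        have h4 : orderOf k ∣ 7 := by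
          have := orderOf_dvd_natCard k
          rwa [Nat.card_units, Nat.card_eq_fintype_card, hF] at this
        exact h3.trans h4
      rw [← ho] at h2
      exact ((Nat.dvd_prime (by norm_num : Nat.Prime 7)).1 h2).resolve_left
        (fun h => h1 (orderOf_eq_one_iff.1 h))
    refine ⟨?_, ho7⟩
    refine Cfsg.Agent.H355.SzOdd.card_fixedBy_eq_two HH h1 (by rw [ho7]; decide) ?_
    intro hf
    have h5 : fx (y * g * y⁻¹) = 0 := by rw [fx_conj]; exact hf
    rw [h] at h5
    have h6 : (H98.SzBasic.h hF' k) ∈ Hyp.free (Cfsg.Sz F 1) (Cfsg.suzukiOvoid F 1) := h5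
    rw [Hyp.mem_free_iff] at h6
    exact h6 (inf F 1) (h_smul_inf hF' k)
  · right; right
    have h2 : fx (y * g * y⁻¹) = 1 := by
      rw [h]
      unfold fx
      have h3 : fixedBy (Cfsg.suzukiOvoid F 1) (u hF' a b) = {inf F 1} := by
        ext p
        rw [mem_fixedBy, Set.mem_singleton_iff]
        constructor
        · exact fun hp => u_fix hF' hab hp
        · rintro rfl
          exact u_smul_inf hF' a b
      rw [h3]
      simp
    rw [fx_conj] at h2
    refine ⟨h2, ?_⟩
    by_contra ho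
    have h3 : Odd (orderOf g) := by
      rw [← Nat.not_even_iff_odd, even_iff_two_dvd]
      exact ho
    have h4 := Cfsg.Agent.H355.SzOdd.card_fixedBy_eq_two HH h1 h3 (by
      intro hf
      have h5 : fx g = 0 := hf
      omega)
    have h5 : fx g = 2 := h4
    omega

/-- the Steinberg character of `Sz(8)` -/
noncomputable def st (g : Cfsg.Sz F 1) : ℂ := (fx g : ℂ) - 1

theorem st_irr (hF : Fintype.card F = 8) : IsIrrCharacter (Cfsg.Sz F 1) st := by
  have hF' := cF hF
  have HH := SuzukiHyp.hyp (F := F) (m := 1) le_rfl hF'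
  have hfin := finite_ovoid F 1
  have hfG : Finite (Cfsg.Sz F 1) := inferInstance
  have h2 := HH.two
  have : IsPretransitive (Cfsg.Sz F 1) (Cfsg.suzukiOvoid F 1) := isPretransitive_of_is_two_pretransitive
  refine (S0157.result (Cfsg.suzukiOvoid F 1) ?_).2 h2
  rw [HH.card_set]
  norm_num

theorem fx_one (hF : Fintype.card F = 8) : fx (1 : Cfsg.Sz F 1) = 65 := by
  have HH := SuzukiHyp.hyp (F := F) (m := 1) le_rfl (cF hF)
  unfold fx
  rw [fixedBy_one_eq_univ, Nat.card_univ, HH.card_set]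
  norm_num

theorem fx_inv (g : Cfsg.Sz F 1) : fx g⁻¹ = fx g := by
  unfold fx
  rw [fixedBy_inv]

theorem sum_fx [Fintype (Cfsg.Sz F 1)] (hF : Fintype.card F = 8) : ∑ g : Cfsg.Sz F 1, ((fx g : ℤ) - 1) = 0 := by
  have hF' := cF hF
  have HH := SuzukiHyp.hyp (F := F) (m := 1) le_rfl hF'
  have hfin := finite_ovoid F 1
  have h2 := HH.two
  have hne : Nonempty (Cfsg.suzukiOvoid F 1) := ⟨inf F 1⟩
  have : IsPretransitive (Cfsg.Sz F 1) (Cfsg.suzukiOvoid F 1) := isPretransitive_of_is_two_pretransitive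
  have h := sum_fixedBy (G := Cfsg.Sz F 1) (X := Cfsg.suzukiOvoid F 1) this
  have h' : ∑ g : Cfsg.Sz F 1, (fx g : ℤ) = (Fintype.card (Cfsg.Sz F 1) : ℤ) := by
    rw [← Nat.card_eq_fintype_card, ← h]
    push_cast
    rfl
  rw [Finset.sum_sub_distrib, h', Finset.sum_const, Finset.card_univ, nsmul_eq_mul, mul_one, sub_self]

theorem card_free_eq [Fintype (Cfsg.Sz F 1)] (hF : Fintype.card F = 8) :
    ∑ g : Cfsg.Sz F 1, (if fx g = 0 then (1 : ℤ) else 0) = 12544 := by
  classical
  have hF' := cF hF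
  have HH := SuzukiHyp.hyp (F := F) (m := 1) le_rfl hF'
  have hfin := finite_ovoid F 1
  have h := HH.card_free
  have h1 : Nat.card (Hyp.free (Cfsg.Sz F 1) (Cfsg.suzukiOvoid F 1)) =
      (Finset.univ.filter (fun g : Cfsg.Sz F 1 => fx g = 0)).card := by
    have h2 : Nat.card (Hyp.free (Cfsg.Sz F 1) (Cfsg.suzukiOvoid F 1)) = Nat.card {g : Cfsg.Sz F 1 // fx g = 0} := rfl
    rw [h2, Nat.card_eq_fintype_card, Fintype.card_subtype]
  rw [h1] at h
  rw [Finset.sum_ite, Finset.sum_const, Finset.sum_const_zero, add_zero, nsmul_eq_mul, mul_one]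
  norm_num only [] at h
  omega

theorem seven_const {V : ValuationSubring ℂ} {G : Type*} [Group G] [Finite G] (h49 : ¬ 7 ^ 2 ∣ Nat.card G)
    {σ : Representation (ResidueField V) G (Fin 56 → ResidueField V)} (H : Vals σ) :
    ∃ t : ℤ, (t = 14 ∨ t = 0 ∨ t = -7) ∧ ∀ g, orderOf g = 7 → bc 2 σ g = t := by
  by_cases h : ∃ g0 : G, orderOf g0 = 7
  · obtain ⟨g0, hg0⟩ := h
    obtain ⟨t, ht, ht'⟩ : ∃ t : ℤ, (t = 14 ∨ t = 0 ∨ t = -7) ∧ bc 2 σ g0 = t := by
      rcases H.seven g0 hg0 with h | h | h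
      · exact ⟨14, Or.inl rfl, by rw [h]; norm_num⟩
      · exact ⟨0, Or.inr (Or.inl rfl), by rw [h]; norm_num⟩
      · exact ⟨-7, Or.inr (Or.inr rfl), by rw [h]; norm_num⟩
    refine ⟨t, ht, fun g hg => ?_⟩
    obtain ⟨c, j, hj⟩ := SpCent.conj_of_orderOf (by norm_num : Nat.Prime 7) h49 hg hg0
    have hc : orderOf (c * g0 * c⁻¹) = 7 := by
      rw [← hg0]
      exact orderOf_injective (MulAut.conj c).toMonoidHom (MulAut.conj c).injective g0
    have hcop : Nat.Coprime j 7 := by
      rw [Nat.coprime_comm, Nat.Prime.coprime_iff_not_dvd (by norm_num)]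
      intro hd
      have h1 : g = 1 := by
        rw [hj]
        exact orderOf_dvd_iff_pow_eq_one.1 (by rw [hc]; exact hd)
      rw [h1, orderOf_one] at hg
      norm_num at hg
    rw [hj, H.seven_pow _ hc j hcop, bc_conj, ht']
  · exact ⟨0, Or.inr (Or.inl rfl), fun g hg => absurd ⟨g, hg⟩ h⟩

/-- `Sz(8)` in the model `Cfsg.Sz` -/
theorem not_sz (hpos : Pos.{u}) (hF : Fintype.card F = 8) : ¬ Adm (Cfsg.Sz F 1) := by
  classical
  rintro ⟨M, V, hM, hV, σ, H⟩
  have hfG : Finite (Cfsg.Sz F 1) := inferInstance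
  have := Fintype.ofFinite (Cfsg.Sz F 1)
  have hc := card_sz8 hF
  obtain ⟨d, hd, he⟩ := hpos hM hV σ (st_irr hF) (fun g hg => by
    unfold IsPRegular at hg
    rw [not_not] at hg
    rcases cases_sz8 hF g with h | ⟨-, h | h⟩ | ⟨-, h⟩ | ⟨h, -⟩
    · rw [h, orderOf_one] at hg
      norm_num at hg
    · rw [h] at hg
      norm_num at hg
    · rw [h] at hg
      norm_num at hg
    · rw [h] at hg
      norm_num at hg
    · unfold st
      rw [h]
      norm_num)
  obtain ⟨t, ht, hbt⟩ := seven_const (by rw [hc]; norm_num) H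
  -- the integral values
  let b : Cfsg.Sz F 1 → ℤ := fun g => if g = 1 then 56 else if orderOf g = 5 then 6 else if orderOf g = 13 then 4
    else if orderOf g = 7 then t else 0
  have hb : ∀ g, bc 2 σ g * st g⁻¹ = ((b g * ((fx g : ℤ) - 1) : ℤ) : ℂ) := by
    intro g
    have hst : (st g⁻¹ : ℂ) = (((fx g : ℤ) - 1 : ℤ) : ℂ) := by
      unfold st
      rw [fx_inv]
      push_cast
      ring
    rw [hst, Int.cast_mul]
    rcases cases_sz8 hF g with h | ⟨h0, h | h⟩ | ⟨h0, h⟩ | ⟨h0, -⟩
    · have h1 : b g = 56 := if_pos h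
      rw [h1, h, H.one]
      norm_num
    · have hne : g ≠ 1 := by
        rintro rfl
        rw [orderOf_one] at h
        norm_num at h
      have h1 : b g = 6 := by
        simp only [b, if_neg hne, if_pos h]
      rw [h1, H.five g h]
      norm_num
    · have hne : g ≠ 1 := by
        rintro rfl
        rw [orderOf_one] at h
        norm_num at h
      have h1 : b g = 4 := by
        simp only [b, if_neg hne, h]
        norm_num
      rw [h1, H.thirteen g h]
      norm_num
    · have hne : g ≠ 1 := by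
        rintro rfl
        rw [orderOf_one] at h
        norm_num at h
      have h1 : b g = t := by
        simp only [b, if_neg hne, h]
        norm_num
      rw [h1, hbt g h]
    · rw [h0]
      norm_num
  have hsum : ∑ g : Cfsg.Sz F 1, bc 2 σ g * st g⁻¹ = ((∑ g : Cfsg.Sz F 1, b g * ((fx g : ℤ) - 1) : ℤ) : ℂ) := by
    rw [Finset.sum_congr rfl fun g _ => hb g]
    push_cast
    rfl
  have hst1 : (st (1 : Cfsg.Sz F 1) : ℂ) = 64 := by
    unfold st
    rw [fx_one hF]
    norm_num
  rw [hsum, hst1, ← Nat.card_eq_fintype_card, hc] at he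
  have he' : (d : ℤ) * 29120 = 64 * ∑ g : Cfsg.Sz F 1, b g * ((fx g : ℤ) - 1) := by
    exact_mod_cast he
  have s1 := sum_fx hF
  have s2 := card_free_eq hF
  have s3 : ∑ g : Cfsg.Sz F 1, (if g = 1 then (1 : ℤ) else 0) = 1 := by
    rw [Finset.sum_ite_eq' Finset.univ (1 : Cfsg.Sz F 1), if_pos (Finset.mem_univ _)]
  have hf1 : ((fx (1 : Cfsg.Sz F 1) : ℕ) : ℤ) = 65 := by rw [fx_one hF]; norm_num
  have hb1 : ∀ g : Cfsg.Sz F 1, (g = 1 ∧ b g = 56 ∧ (fx g : ℤ) = 65) ∨ (g ≠ 1 ∧ (b g = 6 ∨ b g = 4) ∧ fx g = 0) ∨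
      (g ≠ 1 ∧ b g = t ∧ fx g = 2) ∨ (g ≠ 1 ∧ fx g = 1) := by
    intro g
    rcases cases_sz8 hF g with h | ⟨h0, h⟩ | ⟨h0, h⟩ | ⟨h0, h⟩
    · exact Or.inl ⟨h, if_pos h, by rw [h, hf1]⟩
    · have hne : g ≠ 1 := by
        rintro rfl
        rw [orderOf_one] at h
        norm_num at h
      refine Or.inr (Or.inl ⟨hne, ?_, h0⟩)
      rcases h with h | h
      · left
        simp only [b, if_neg hne, if_pos h]
      · right
        simp only [b, if_neg hne, h]
        norm_num
    · have hne : g ≠ 1 := by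
        rintro rfl
        rw [orderOf_one] at h
        norm_num at h
      refine Or.inr (Or.inr (Or.inl ⟨hne, ?_, h0⟩))
      simp only [b, if_neg hne, h]
      norm_num
    · have hne : g ≠ 1 := by
        rintro rfl
        rw [orderOf_one] at h
        norm_num at h
      exact Or.inr (Or.inr (Or.inr ⟨hne, h0⟩))
  have hdn : (0 : ℤ) ≤ d := by (clear * -; positivity)
  have hd56 : (d : ℤ) ≤ 56 := by exact_mod_cast hd
  by_cases ht0 : t = 14
  · have h1 : ∑ g : Cfsg.Sz F 1, (14 * ((fx g : ℤ) - 1) + 2688 * (if g = 1 then (1 : ℤ) else 0) +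
        8 * (if fx g = 0 then (1 : ℤ) else 0)) ≤ ∑ g : Cfsg.Sz F 1, b g * ((fx g : ℤ) - 1) := by
      refine Finset.sum_le_sum fun g _ => ?_
      rcases hb1 g with ⟨h1, h2, h3⟩ | ⟨h1, h2, h3⟩ | ⟨h1, h2, h3⟩ | ⟨h1, h3⟩
      · have h4 : fx g ≠ 0 := by omega
        rw [if_pos h1, if_neg h4, h2, h3]
        norm_num
      · rw [if_neg h1, if_pos h3, h3]
        rcases h2 with h2 | h2 <;> rw [h2] <;> norm_num
      · have h4 : fx g ≠ 0 := by omega
        rw [if_neg h1, if_neg h4, h2, h3, ht0]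
        norm_num
      · have h4 : fx g ≠ 0 := by omega
        rw [if_neg h1, if_neg h4, h3]
        norm_num
    rw [Finset.sum_add_distrib, Finset.sum_add_distrib, ← Finset.mul_sum, ← Finset.mul_sum, ← Finset.mul_sum,
      s1, s2, s3] at h1
    omega
  · have ht' : t ≤ 0 := by
      rcases ht with h | h | h
      · exact absurd h ht0
      · omega
      · omega
    have h1 : ∑ g : Cfsg.Sz F 1, b g * ((fx g : ℤ) - 1) ≤ ∑ g : Cfsg.Sz F 1, (3584 * (if g = 1 then (1 : ℤ) else 0) +
        (-4) * (if fx g = 0 then (1 : ℤ) else 0)) := by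
      refine Finset.sum_le_sum fun g _ => ?_
      rcases hb1 g with ⟨h1, h2, h3⟩ | ⟨h1, h2, h3⟩ | ⟨h1, h2, h3⟩ | ⟨h1, h3⟩
      · have h4 : fx g ≠ 0 := by omega
        rw [if_pos h1, if_neg h4, h2, h3]
        norm_num
      · rw [if_neg h1, if_pos h3, h3]
        rcases h2 with h2 | h2 <;> rw [h2] <;> norm_num
      · have h4 : fx g ≠ 0 := by omega
        rw [if_neg h1, if_neg h4, h2, h3]
        norm_num
        exact ht'
      · have h4 : fx g ≠ 0 := by omega
        rw [if_neg h1, if_neg h4, h3]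
        norm_num
    rw [Finset.sum_add_distrib, ← Finset.mul_sum, ← Finset.mul_sum, s2, s3] at h1
    omega

/-- **`Sz(8)`** is not admissible -/
theorem not_sz8_of (hpos : Pos.{u}) (hF : Fintype.card F = 8) : ¬ Adm ↥(Cfsg.Lie.Sz F 4) := by
  intro h
  have e := H680.Exc.iso (F := F) (m := 1) le_rfl (cF hF)
  exact not_sz hpos hF (h.comap e.toMonoidHom e.injective)

/-- **`Sz(8)`** is not admissible -/
theorem not_sz8 (hF : Fintype.card F = 8) : ¬ Adm ↥(Cfsg.Lie.Sz F 4) := not_sz8_of pos_holds hF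

end Cfsg.Agent.H102.E7V
end

-- part: H102/E7V/Psl34
section
/-!
# S5770: `PSL(3,4)` is not admissible (task 2446)
-/

set_option autoImplicit false

namespace Cfsg.Agent.H102.E7V

open Cfsg IsLocalRing Module Cfsg.Agent.H657 Cfsg.Agent.H943.E7V Subgroup
open Cfsg.Agent.SporadicA.FieldFour Cfsg.Agent.ONType.Psl Cfsg.Agent.ONType.PslCard
open Cfsg.Agent.CpAut.SmallP.PslFour (finite_PSL3)
open Cfsg.Agent.H326.Four

theorem mem_cent_pow {G : Type*} [Group G] (g : G) (k : ℕ) : g ∈ centralizer ({g ^ k} : Set G) := by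
  rw [mem_centralizer_singleton_iff]
  exact (Commute.pow_self g k).symm.eq

theorem cent_H : centralizer ({(QuotientGroup.mk H : PSL3)} : Set PSL3) = E := by
  have hf := finite_PSL3
  symm
  apply Subgroup.eq_of_le_of_card_ge
  · rintro _ ⟨i, j, rfl⟩
    rw [mem_centralizer_singleton_iff]
    have h1 : (QuotientGroup.mk H : PSL3) = eE 1 0 := by
      show (QuotientGroup.mk H : PSL3) = (QuotientGroup.mk (H ^ 1 * B ^ 0) : PSL3)
      rw [pow_one, pow_zero, mul_one]
    rw [h1, eE_mul, eE_mul, add_comm i, add_comm j]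
  · rw [card_E]
    exact Nat.le_of_dvd (by norm_num) (BpSpor.LFour.card_three order_H)

theorem order_of_comm {y : PSL3} (hy : orderOf y = 3) {g : PSL3} (hg : g ∈ centralizer ({y} : Set PSL3)) (h1 : g ≠ 1) :
    orderOf g = 3 := by
  obtain ⟨c, hc⟩ := isConj_iff.1 (conj_H hy)
  have h2 : c⁻¹ * g * c ∈ centralizer ({(QuotientGroup.mk H : PSL3)} : Set PSL3) := by
    rw [mem_centralizer_singleton_iff] at hg ⊢
    have h3 : (QuotientGroup.mk H : PSL3) = c⁻¹ * y * c := by
      rw [← hc]
      group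
    rw [h3]
    have h4 : c⁻¹ * g * c * (c⁻¹ * y * c) = c⁻¹ * (g * y) * c := by group
    have h5 : c⁻¹ * y * c * (c⁻¹ * g * c) = c⁻¹ * (y * g) * c := by group
    rw [h4, h5, hg]
  rw [cent_H] at h2
  have h3 : c⁻¹ * g * c ≠ 1 := by
    intro h
    apply h1
    have : g = c * (c⁻¹ * g * c) * c⁻¹ := by group
    rw [this, h]
    group
  refine Eq.trans ?_ (order_of_mem h2 h3)
  have h4 : c⁻¹ * g * c = MulAut.conj c⁻¹ g := by
    simp only [_root_.map_inv, _root_.MulAut.inv_apply, _root_.MulAut.conj_symm_apply]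
  rw [h4]
  exact (MulEquiv.orderOf_eq (MulAut.conj c⁻¹) g).symm

theorem card_cent_three {x : PSL3} (hx : orderOf x = 3) : Nat.card (centralizer ({x} : Set PSL3)) = 9 := by
  obtain ⟨c, hc⟩ := isConj_iff.1 (conj_H hx)
  have h := Blocks.SylowIn.card_centralizer_of_isConj (isConj_iff.2 ⟨c, hc⟩)
  rw [← card_E, ← cent_H]
  first
    | exact h.symm
    | exact h

theorem ord_cases (g : PSL3) : 2 ∣ orderOf g ∨ orderOf g = 1 ∨ orderOf g = 3 ∨ orderOf g = 5 ∨ orderOf g = 7 := by
  have hf := finite_PSL3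
  by_cases h2 : 2 ∣ orderOf g
  · exact Or.inl h2
  right
  have hpos := orderOf_pos g
  by_cases h1 : orderOf g = 1
  · exact Or.inl h1
  right
  have hg1 : g ≠ 1 := fun h => h1 (by rw [h, orderOf_one])
  obtain ⟨r, hr, hrd⟩ := Nat.exists_prime_and_dvd h1
  have hd : orderOf g ∣ 20160 := card_PSL3 ▸ _root_.orderOf_dvd_natCard g
  have hr' : r ∈ Nat.primeFactors 20160 := Nat.mem_primeFactors.2 ⟨hr, hrd.trans hd, by norm_num⟩
  have hpf : Nat.primeFactors 20160 = {2, 3, 5, 7} := by
    ext p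
    rw [Nat.mem_primeFactors]
    simp only [Finset.mem_insert, Finset.mem_singleton]
    constructor
    · rintro ⟨hp, hpd, -⟩
      have h3 : p ∣ 2 ^ 6 * (3 ^ 2 * (5 * 7)) := by
        norm_num
        exact hpd
      rcases (Nat.Prime.dvd_mul hp).1 h3 with h | h
      · exact Or.inl ((Nat.prime_dvd_prime_iff_eq hp Nat.prime_two).1 (hp.dvd_of_dvd_pow h))
      rcases (Nat.Prime.dvd_mul hp).1 h with h | h
      · exact Or.inr (Or.inl ((Nat.prime_dvd_prime_iff_eq hp Nat.prime_three).1 (hp.dvd_of_dvd_pow h)))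
      rcases (Nat.Prime.dvd_mul hp).1 h with h | h
      · exact Or.inr (Or.inr (Or.inl ((Nat.prime_dvd_prime_iff_eq hp (by norm_num)).1 h)))
      · exact Or.inr (Or.inr (Or.inr ((Nat.prime_dvd_prime_iff_eq hp (by norm_num)).1 h)))
    · rintro (rfl | rfl | rfl | rfl) <;> exact ⟨by norm_num, by norm_num, by norm_num⟩
  rw [hpf] at hr'
  simp only [Finset.mem_insert, Finset.mem_singleton] at hr'
  have hord : orderOf (g ^ (orderOf g / r)) = r := orderOf_pow_orderOf_div hpos.ne' hrd
  have hmem := mem_cent_pow g (orderOf g / r)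
  rcases hr' with h | h | h | h
  · rw [h] at hrd
    exact absurd hrd h2
  · rw [h] at hord hmem
    exact Or.inl (order_of_comm hord hmem hg1)
  · rw [h] at hord hmem
    have h3 := Subgroup.orderOf_dvd_natCard _ hmem
    rw [BpSpor.LFour.card_five hord] at h3
    exact Or.inr (Or.inl (((Nat.dvd_prime (by norm_num)).1 h3).resolve_left h1))
  · rw [h] at hord hmem
    have h3 := Subgroup.orderOf_dvd_natCard _ hmem
    rw [BpSpor.LFour.card_seven hord] at h3
    exact Or.inr (Or.inr (((Nat.dvd_prime (by norm_num)).1 h3).resolve_left h1))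

theorem ncard_three : {y : PSL3 | orderOf y = 3}.ncard = 2240 := by
  have hf := finite_PSL3
  have hfc : Finite (ConjAct PSL3) := hf
  have h1 : {y : PSL3 | orderOf y = 3} = MulAction.orbit (ConjAct PSL3) (QuotientGroup.mk H : PSL3) := by
    ext y
    rw [ConjAct.mem_orbit_conjAct]
    constructor
    · intro hy
      exact (conj_H hy).symm
    · intro hy
      obtain ⟨c, hc⟩ := isConj_iff.1 hy.symm
      show orderOf y = 3
      rw [← hc]
      exact (MulEquiv.orderOf_eq (MulAut.conj c) _).trans order_H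
  have h2 := MulAction.index_stabilizer (ConjAct PSL3) (QuotientGroup.mk H : PSL3)
  have h3 := (MulAction.stabilizer (ConjAct PSL3) (QuotientGroup.mk H : PSL3)).card_mul_index
  have h4 := Subgroup.nat_card_centralizer_nat_card_stabilizer (QuotientGroup.mk H : PSL3)
  rw [← h4, card_cent_three order_H, h2, ← h1] at h3
  have h5 : Nat.card (ConjAct PSL3) = 20160 := card_PSL3
  rw [h5] at h3
  omega

theorem sum_split [Fintype PSL3] [DecidableEq PSL3] (F : PSL3 → ℂ) (hF : ∀ g, 2 ∣ orderOf g → F g = 0) :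
    ∑ g, F g = F 1 + ∑ g ∈ Finset.univ.filter (fun g : PSL3 => orderOf g = 3), F g +
      ∑ g ∈ Finset.univ.filter (fun g : PSL3 => orderOf g = 5), F g +
      ∑ g ∈ Finset.univ.filter (fun g : PSL3 => orderOf g = 7), F g := by
  have h1 : F 1 = ∑ g, (if g = 1 then F g else 0) := by
    rw [Finset.sum_ite_eq' Finset.univ (1 : PSL3), if_pos (Finset.mem_univ _)]
  rw [h1, Finset.sum_filter, Finset.sum_filter, Finset.sum_filter, ← Finset.sum_add_distrib,
    ← Finset.sum_add_distrib, ← Finset.sum_add_distrib]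
  refine Finset.sum_congr rfl fun g _ => ?_
  rcases ord_cases g with h | h | h | h | h
  · rw [hF g h]
    simp
  · have h2 : g = 1 := orderOf_eq_one_iff.1 h
    rw [if_pos h2, h]
    simp
  all_goals
    have h2 : g ≠ 1 := by
      rintro rfl
      rw [orderOf_one] at h
      norm_num at h
    rw [if_neg h2, h]
    simp

theorem sum_zpowers_eq {G : Type*} [Group G] [Finite G] {χ : G → ℂ} (hχ : IsIrrCharacter G χ) (x : G)
    [Fintype (zpowers x)] : ∃ m : ℤ, ∑ y : zpowers x, χ (y : G)⁻¹ = (orderOf x : ℂ) * m := by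
  obtain ⟨n, hn⟩ := M22.BDataOfBlocks.exists_sum_eq (Characters.Core.isIrr_isCharacter hχ) (zpowers x)
  refine ⟨n, ?_⟩
  rw [Nat.card_zpowers] at hn
  rw [Int.cast_natCast, ← hn]
  exact Fintype.sum_equiv (Equiv.inv _) _ _ fun y => rfl

theorem vals {t3 t7 d m5 m7 : ℤ} (h3 : t3 = 2 ∨ t3 = 20 ∨ t3 = -7 ∨ t3 = -25) (h7 : t7 = 14 ∨ t7 = 0 ∨ t7 = -7)
    (hd : 0 ≤ d) (hd' : d ≤ 56) (h1 : 64 + 2240 + 2016 * (5 * m5 - 64) + 960 * (7 * m7 - 64) = 0)
    (h2 : d * 20160 = 64 * (56 * 64 + t3 * 2240 + 6 * (2016 * (5 * m5 - 64)) + t7 * (960 * (7 * m7 - 64)))) :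
    t3 = 20 ∧ t7 = 0 := by
  rcases h3 with rfl | rfl | rfl | rfl <;> rcases h7 with rfl | rfl | rfl <;>
    first
      | exact ⟨rfl, rfl⟩
      | (exfalso; (solve | lia | omega))

/-- **`PSL(3,4)`** is not admissible -/
theorem not_psl (hpos : Pos.{0}) : ¬ Adm PSL3 := by
  classical
  rintro ⟨M, V, hM, hV, σ, H'⟩
  have hfin := finite_PSL3
  have := Fintype.ofFinite PSL3
  have hF5 : Fact (Nat.Prime 5) := ⟨by norm_num⟩
  have hF7 : Fact (Nat.Prime 7) := ⟨by norm_num⟩
  obtain ⟨χ, hχ⟩ := exists_theta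
  -- the zeros
  have hz : ∀ g, 2 ∣ orderOf g → (χ : PSL3 → ℂ) g = 0 := by
    obtain ⟨n, ρ, hρ, hρχ⟩ := χ.2
    intro g hg
    have h1 : (n : ℂ) = 64 := by
      rw [← hχ, ← hρχ, Representation.char_one]
      simp only [_root_.Module.finrank_fintype_fun_eq_card, _root_.Fintype.card_fin]
    have h2 : n = 64 := by exact_mod_cast h1
    have h3 := S0165.result ρ 2 6 Nat.prime_two (by rw [card_PSL3]; norm_num) (by rw [card_PSL3]; norm_num)
      (by rw [finrank_fin_fun, h2]; norm_num) g hg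
    rw [← hρχ]
    exact h3
  obtain ⟨d, hd, he⟩ := hpos hM hV σ χ.2 (fun g hg => hz g (not_not.1 hg))
  set! f : PSL3 → ℂ := fun g => (χ : PSL3 → ℂ) g⁻¹ with hf
  have hfz : ∀ g, 2 ∣ orderOf g → f g = 0 := fun g hg => hz g⁻¹ (by rwa [orderOf_inv])
  have hfc : ∀ c g, f (c * g * c⁻¹) = f g := by
    intro c g
    show (χ : PSL3 → ℂ) (c * g * c⁻¹)⁻¹ = (χ : PSL3 → ℂ) g⁻¹
    have h1 : (c * g * c⁻¹)⁻¹ = c * g⁻¹ * c⁻¹ := by group
    rw [h1]
    exact Characters.Core.isIrr_isClassFunction χ.2 g⁻¹ c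
  have hf1 : f 1 = 64 := by
    show (χ : PSL3 → ℂ) (1 : PSL3)⁻¹ = 64
    rw [inv_one, hχ]
  have hf3 : ∀ g, orderOf g = 3 → f g = 1 := fun g hg => theta_three χ hχ (by rwa [orderOf_inv])
  -- orthogonality with the trivial character
  have hsum0 : ∑ g, f g = 0 := by
    have h1 := Characters.Core.classInner_irr_ne χ.2 Characters.Core.isIrr_one (by
      intro h
      have := congrFun h 1
      rw [hχ] at this
      norm_num at this)
    rw [Characters.Core.classInner_def] at h1
    have h2 : (Nat.card PSL3 : ℂ)⁻¹ ≠ 0 := inv_ne_zero (by rw [card_PSL3]; norm_num)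
    have h3 := (mul_eq_zero.1 h1).resolve_left h2
    rw [← h3]
    exact Fintype.sum_equiv (Equiv.inv _) _ _ fun g => by simp only [f, _root_.Equiv.inv_apply, _root_.Pi.one_apply, _root_.map_one, _root_.mul_one]
  -- elements of order 5 and 7
  obtain ⟨x5, hx5⟩ := exists_prime_orderOf_dvd_card' (G := PSL3) 5 (by rw [card_PSL3]; norm_num)
  obtain ⟨x7, hx7⟩ := exists_prime_orderOf_dvd_card' (G := PSL3) 7 (by rw [card_PSL3]; norm_num)
  have := Fintype.ofFinite (zpowers x5)
  have := Fintype.ofFinite (zpowers x7)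
  obtain ⟨m5, hm5⟩ := sum_zpowers_eq χ.2 x5
  obtain ⟨m7, hm7⟩ := sum_zpowers_eq χ.2 x7
  rw [hx5] at hm5
  rw [hx7] at hm7
  have hs5 := sum_order (by norm_num : Nat.Prime 5) (by rw [card_PSL3]; norm_num) hx5 f hfc
  have hs7 := sum_order (by norm_num : Nat.Prime 7) (by rw [card_PSL3]; norm_num) hx7 f hfc
  have n5 : Nat.card (Sylow 5 PSL3) = 2016 := by
    obtain ⟨e, he, hm, -, hc⟩ := count (by norm_num : Nat.Prime 5) (by rw [card_PSL3]; norm_num) hx5
    rw [BpSpor.LFour.card_five hx5, card_PSL3] at hc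
    have h4 : e ≤ 4 := Nat.le_of_dvd (by norm_num) he
    interval_cases e <;> (clear * - he hm hc; omega)
  obtain ⟨n7, hN⟩ : Nat.card (Sylow 7 PSL3) = 960 ∧ Nat.card (normalizer (zpowers x7 : Set PSL3)) = 21 := by
    obtain ⟨e, he, hm, hN, hc⟩ := count (by norm_num : Nat.Prime 7) (by rw [card_PSL3]; norm_num) hx7
    rw [BpSpor.LFour.card_seven hx7, card_PSL3] at hc
    rw [BpSpor.LFour.card_seven hx7] at hN
    have h4 : e ≤ 6 := Nat.le_of_dvd (by norm_num) he
    interval_cases e <;> (clear * - he hm hc hN; omega)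
  rw [n5, hf1, hm5] at hs5
  rw [n7, hf1, hm7] at hs7
  have hc3 : (Finset.univ.filter (fun g : PSL3 => orderOf g = 3)).card = 2240 := by
    rw [← ncard_three, ← Set.ncard_coe_finset]
    congr 1
    ext g
    simp
  -- the sum of f
  have hA := sum_split f hfz
  have hA3 : ∑ g ∈ Finset.univ.filter (fun g : PSL3 => orderOf g = 3), f g = 2240 := by
    rw [Finset.sum_congr rfl fun g hg => hf3 g (Finset.mem_filter.1 hg).2, Finset.sum_const, hc3]
    norm_num
  rw [hsum0, hf1, hA3, hs5, hs7] at hA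
  -- the sum of bc * f
  have hB := sum_split (fun g => bc 2 σ g * f g) (fun g hg => by
    show bc 2 σ g * f g = 0
    rw [hfz g hg, mul_zero])
  obtain ⟨t3, ht3, ht3'⟩ : ∃ t : ℤ, (t = 2 ∨ t = 20 ∨ t = -7 ∨ t = -25) ∧ ∀ g, orderOf g = 3 → bc 2 σ g = t := by
    have h1 : ∃ t : ℤ, (t = 2 ∨ t = 20 ∨ t = -7 ∨ t = -25) ∧ bc 2 σ (QuotientGroup.mk H : PSL3) = t := by
      rcases H'.three _ order_H with h | h | h | h
      · exact ⟨2, by simp, by rw [h]; norm_num⟩
      · exact ⟨20, by simp, by rw [h]; norm_num⟩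
      · exact ⟨-7, by simp, by rw [h]; norm_num⟩
      · exact ⟨-25, by simp, by rw [h]; norm_num⟩
    obtain ⟨t, ht, ht'⟩ := h1
    refine ⟨t, ht, fun g hg => ?_⟩
    obtain ⟨c, hc⟩ := isConj_iff.1 (conj_H hg)
    rw [← hc, bc_conj, ht']
  obtain ⟨t7, ht7, ht7'⟩ := seven_const (by rw [card_PSL3]; norm_num) H'
  have hB3 : ∑ g ∈ Finset.univ.filter (fun g : PSL3 => orderOf g = 3), bc 2 σ g * f g = t3 * 2240 := by
    rw [Finset.sum_congr rfl (g := fun _ => (t3 : ℂ)) fun g hg => by
      rw [ht3' g (Finset.mem_filter.1 hg).2, hf3 g (Finset.mem_filter.1 hg).2, mul_one], Finset.sum_const, hc3]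
    rw [nsmul_eq_mul, mul_comm]
    norm_num
  have hB5 : ∑ g ∈ Finset.univ.filter (fun g : PSL3 => orderOf g = 5), bc 2 σ g * f g =
      6 * ∑ g ∈ Finset.univ.filter (fun g : PSL3 => orderOf g = 5), f g := by
    rw [Finset.mul_sum]
    exact Finset.sum_congr rfl fun g hg => by rw [H'.five g (Finset.mem_filter.1 hg).2]
  have hB7 : ∑ g ∈ Finset.univ.filter (fun g : PSL3 => orderOf g = 7), bc 2 σ g * f g =
      t7 * ∑ g ∈ Finset.univ.filter (fun g : PSL3 => orderOf g = 7), f g := by
    rw [Finset.mul_sum]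
    exact Finset.sum_congr rfl fun g hg => by rw [ht7' g (Finset.mem_filter.1 hg).2]
  have hB1 : bc 2 σ 1 * f 1 = 56 * 64 := by rw [H'.one, hf1]
  rw [hB3, hB5, hB7, hB1, hs5, hs7] at hB
  change (d : ℂ) * Fintype.card PSL3 = (χ : PSL3 → ℂ) 1 * ∑ g, bc 2 σ g * f g at he
  rw [hB, hχ, ← Nat.card_eq_fintype_card, card_PSL3] at he
  -- over the integers
  have hA' : (64 : ℤ) + 2240 + 2016 * (5 * m5 - 64) + 960 * (7 * m7 - 64) = 0 := by
    have h1 : (((64 : ℤ) + 2240 + 2016 * (5 * m5 - 64) + 960 * (7 * m7 - 64) : ℤ) : ℂ) = ((0 : ℤ) : ℂ) := by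
      push_cast
      linear_combination -hA
    exact_mod_cast h1
  have he' : (d : ℤ) * 20160 = 64 * (56 * 64 + t3 * 2240 + 6 * (2016 * (5 * m5 - 64)) + t7 * (960 * (7 * m7 - 64))) := by
    have h1 : (((d : ℤ) * 20160 : ℤ) : ℂ) =
        ((64 * (56 * 64 + t3 * 2240 + 6 * (2016 * (5 * m5 - 64)) + t7 * (960 * (7 * m7 - 64))) : ℤ) : ℂ) := by
      push_cast
      linear_combination he
    exact_mod_cast h1
  obtain ⟨r3, r7⟩ := vals ht3 ht7 (by (clear * -; positivity)) (by exact_mod_cast hd) hA' he'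
  -- the Frobenius group of order 21
  set! N : Subgroup PSL3 := normalizer (zpowers x7 : Set PSL3) with hNdef; rewrite [← hNdef] at hN
  have hle : zpowers x7 ≤ N := le_normalizer
  have hP : Nat.card ((zpowers x7).subgroupOf N) = 7 := by
    rw [Nat.card_congr (Subgroup.subgroupOfEquivOfLe hle).toEquiv, Nat.card_zpowers, hx7]
  have hPn : ((zpowers x7).subgroupOf N).Normal := normal_in_normalizer
  have hPi : ((zpowers x7).subgroupOf N).index = 3 := by
    have h1 := ((zpowers x7).subgroupOf N).card_mul_index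
    rw [hP, hN] at h1
    omega
  refine not_frob hpos hM hV hP hPi ?_ (σ.comp N.subtype) ?_ ?_ ?_
  · intro g hg
    have h1 : orderOf (g : PSL3) = 21 := (orderOf_injective N.subtype N.subtype_injective g).trans hg
    rcases ord_cases (g : PSL3) with h | h | h | h | h <;> rw [h1] at h <;> norm_num at h
  · exact H'.one
  · intro g hg
    have h1 : orderOf (g : PSL3) = 3 := (orderOf_injective N.subtype N.subtype_injective g).trans hg
    have h2 := ht3' g h1
    rw [r3] at h2
    have h3 : bc 2 σ (g : PSL3) = 20 := by rw [h2]; norm_num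
    exact h3
  · intro g hg
    have h1 : orderOf (g : PSL3) = 7 := (orderOf_injective N.subtype N.subtype_injective g).trans hg
    have h2 := ht7' g h1
    rw [r7] at h2
    have h3 : bc 2 σ (g : PSL3) = 0 := by rw [h2]; norm_num
    exact h3

/-- **`PSL(3,4)`** is not admissible, any field of order four -/
theorem not_psl34_of (hpos : Pos.{0}) {F : Type*} [Field F] [Fintype F] (hF : Fintype.card F = 4) :
    ¬ Adm (Matrix.ProjectiveSpecialLinearGroup (Fin 3) F) := by
  intro h
  obtain ⟨e⟩ := nonempty_psl_equiv (n := Fin 3) F hF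
  exact not_psl hpos (h.comap e.toMonoidHom e.injective)

/-- **`PSL(3,4)`** is not admissible -/
theorem not_psl34 {F : Type*} [Field F] [Fintype F] (hF : Fintype.card F = 4) :
    ¬ Adm (Matrix.ProjectiveSpecialLinearGroup (Fin 3) F) := not_psl34_of pos_holds hF

end Cfsg.Agent.H102.E7V
end
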